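import Cfsg.Agent.Lib.Helper27.T14.Defs

namespace Cfsg.Agent.Lib.Helper27.T14
open Subgroup

theorem card_mul_relIndex' {G : Type*} [Group G] {H K : Subgroup G} (h : H ≤ K) :
    Nat.card H * H.relIndex K = Nat.card K := by
  have := Subgroup.relIndex_mul_relIndex ⊥ H K bot_le h
  simpa [Subgroup.relIndex_bot_left] using this

end Cfsg.Agent.Lib.Helper27.T14
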